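import Cfsg.Agent.H546.S8.Ext

/-!
# S4908, CHIEF: two commuting pairs (helper979)

`two_pair` : for `Pair p z b w`, `Pair p z b' w'` with `b` commuting with `b'`, `w'`: `|C_Λ(z)| W ^ (p ^ 2) ≤ |Λ|` for some
`W > 1`, `W ≡ 1 mod p`, `W ∣ |Λ|` (a faithful module of `p ^ (1 + 4)`).
-/

set_option autoImplicit false

namespace Cfsg.Agent.H979.S8

open Subgroup Cfsg.Agent.H546.S8

universe u v

variable {X : Type v} [Group X] {Λ : Type u} [CommGroup Λ] [Finite Λ] {ρ : X →* MulAut Λ} {p : ℕ} [hp : Fact p.Prime]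

/-- one pair, with the fixed points of `z` -/
theorem fix_mul_le {z b w : X} (P : Pair p z b w) (hc : Nat.Coprime p (Nat.card Λ)) :
    Nat.card (fixS ρ z) * Nat.card (WW P ρ 0) ^ p ≤ Nat.card Λ := by
  have h1 : Function.Injective (fun f : fixS ρ z × ((i : ZMod p) → WW P ρ i) => (f.1 : Λ) * ∏ i, (f.2 i : Λ)) := by
    rintro ⟨c, f⟩ ⟨c', g⟩ hfg
    have h0 : (c : Λ) * ∏ i, (f i : Λ) = (c' : Λ) * ∏ i, (g i : Λ) := hfg
    have hN : ∀ (f : (i : ZMod p) → WW P ρ i), Nm p ρ z (∏ i, (f i : Λ)) = 1 := by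
      intro f
      rw [Nm_prod]
      exact Finset.prod_eq_one fun i _ => (P.mem.1 (f i).2).2
    have hc1 : (c : Λ) = c' := by
      have h2 := congrArg (Nm p ρ z) h0
      rw [Nm_mul, Nm_mul, hN, hN, mul_one, mul_one, Nm_fix c.2, Nm_fix c'.2] at h2
      have h3 : ((c : Λ) * (c' : Λ)⁻¹) ^ p = 1 := by rw [mul_pow, inv_pow, h2, mul_inv_cancel]
      exact mul_inv_eq_one.1 (eq_one_of_pow P hc h3)
    have h3 : ∏ i, (f i : Λ) = ∏ i, (g i : Λ) := by
      rw [hc1] at h0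
      exact mul_left_cancel h0
    have h2 : ∏ i, ((f i : Λ) * (g i : Λ)⁻¹) = 1 := by
      rw [Finset.prod_mul_distrib, Finset.prod_inv_distrib, h3, mul_inv_cancel]
    have hfg' : f = g := by
      funext j
      have h4 : ∀ i, (f i : Λ) * (g i : Λ)⁻¹ ∈ WW P ρ i := fun i => mul_mem (f i).2 (inv_mem (g i).2)
      have h5 : Nm p ρ (z ^ j.val * b) (∏ i, ((f i : Λ) * (g i : Λ)⁻¹)) = ((f j : Λ) * (g j : Λ)⁻¹) ^ p := by
        rw [Nm_prod, Finset.prod_eq_single j]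
        · exact Nm_fix (P.mem.1 (h4 j)).1
        · intro i _ hij
          rw [P.cross hij (P.mem.1 (h4 i)).1]
          exact (P.mem.1 (h4 i)).2
        · intro h
          exact absurd (Finset.mem_univ j) h
      rw [h2, Nm_one] at h5
      have h6 := eq_one_of_pow P hc h5.symm
      exact Subtype.ext (mul_inv_eq_one.1 h6)
    exact Prod.ext (Subtype.ext hc1) hfg'
  have h7 := Nat.card_le_card_of_injective _ h1
  rw [Nat.card_prod, Nat.card_pi, Finset.prod_congr rfl fun i _ => P.card_eq i 0, Finset.prod_const, Finset.card_univ,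
    ZMod.card] at h7
  exact h7

/-- the centraliser of `z` and `b` -/
def cen (z b : X) : Subgroup X := centralizer ({z} : Set X) ⊓ centralizer ({b} : Set X)

theorem mem_cen {z b g : X} : g ∈ cen z b ↔ g * z = z * g ∧ g * b = b * g := by
  rw [cen, mem_inf, mem_centralizer_singleton_iff, mem_centralizer_singleton_iff]

theorem act_mem {z b w : X} (P : Pair p z b w) {g : X} (hg : g ∈ cen z b) {x : Λ} (hx : x ∈ WW P ρ 0) :
    ρ g x ∈ WW P ρ 0 := by
  obtain ⟨h1, h2⟩ := mem_cen.1 hg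
  obtain ⟨h3, h4⟩ := P.mem.1 hx
  refine P.mem.2 ⟨?_, ?_⟩
  · have h5 : z ^ (0 : ZMod p).val * b * g = g * (z ^ (0 : ZMod p).val * b) := by
      rw [ZMod.val_zero, pow_zero, one_mul, h2]
    calc ρ (z ^ (0 : ZMod p).val * b) (ρ g x) = ρ (z ^ (0 : ZMod p).val * b * g) x := by
          rw [map_mul _ (z ^ (0 : ZMod p).val * b) g]; rfl
      _ = ρ g (ρ (z ^ (0 : ZMod p).val * b) x) := by rw [h5, map_mul]; rfl
      _ = ρ g x := by rw [h3]
  · rw [Nm_comm h1.symm, h4, map_one]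

/-- the action on `WW P ρ 0` -/
def act2 {z b w : X} (P : Pair p z b w) (ρ : X →* MulAut Λ) : cen z b →* MulAut (WW P ρ 0) where
  toFun g :=
    { toFun := fun x => ⟨ρ g x, act_mem P g.2 x.2⟩
      invFun := fun x => ⟨ρ ((g⁻¹ : cen z b) : X) x, act_mem P (g⁻¹ : cen z b).2 x.2⟩
      left_inv := fun x => Subtype.ext (by
        show ρ ((g⁻¹ : cen z b) : X) (ρ g x) = x
        rw [coe_inv, map_inv]
        simp)
      right_inv := fun x => Subtype.ext (by
        show ρ g (ρ ((g⁻¹ : cen z b) : X) x) = x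
        rw [coe_inv, map_inv]
        simp)
      map_mul' := fun x y => Subtype.ext (by simp) }
  map_one' := by
    ext x
    simp
  map_mul' g h := by
    ext x
    simp

theorem act2_apply {z b w : X} (P : Pair p z b w) (g : cen z b) (x : WW P ρ 0) :
    ((act2 P ρ g x : WW P ρ 0) : Λ) = ρ g x := rfl

/-- **two pairs** -/
theorem two_pair {z b w b' w' : X} (P : Pair p z b w) (P' : Pair p z b' w') (h1 : b' * b = b * b') (h2 : w' * b = b * w')
    (hc : Nat.Coprime p (Nat.card Λ)) (hz : ∃ x : Λ, ρ z x ≠ x) :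
    ∃ W : ℕ, 1 < W ∧ W ≡ 1 [MOD p] ∧ W ∣ Nat.card Λ ∧ Nat.card (fixS ρ z) * (W ^ p) ^ p ≤ Nat.card Λ := by
  have hzc : z ∈ cen z b := mem_cen.2 ⟨rfl, P.zb⟩
  have hbc : b' ∈ cen z b := mem_cen.2 ⟨P'.zb.symm, h1⟩
  have hwc : w' ∈ cen z b := mem_cen.2 ⟨P'.wz, h2⟩
  have Q : Pair p (⟨z, hzc⟩ : cen z b) ⟨b', hbc⟩ ⟨w', hwc⟩ :=
    ⟨Subtype.ext P'.zp, Subtype.ext P'.bp, Subtype.ext P'.zb, Subtype.ext P'.wz, Subtype.ext P'.wb⟩
  have hd : Nat.card (WW P ρ 0) ∣ Nat.card Λ := Subgroup.card_subgroup_dvd_card _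
  have hc' : Nat.Coprime p (Nat.card (WW P ρ 0)) := Nat.Coprime.coprime_dvd_right hd hc
  have hz' : ∃ x : WW P ρ 0, act2 P ρ ⟨z, hzc⟩ x ≠ x := by
    have h3 := P.ne_bot hc hz
    rw [Finite.one_lt_card_iff_nontrivial] at h3
    obtain ⟨x, hx⟩ := exists_ne (1 : WW P ρ 0)
    refine ⟨x, fun h4 => hx ?_⟩
    have h5 : ρ z (x : Λ) = x := congrArg Subtype.val h4
    have h6 := (P.mem.1 x.2).2
    rw [Nm_fix h5] at h6
    exact Subtype.ext (eq_one_of_pow P hc h6)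
  refine ⟨Nat.card (WW Q (act2 P ρ) 0), Q.ne_bot hc' hz', Q.modEq hc', (Subgroup.card_subgroup_dvd_card _).trans hd, ?_⟩
  exact (Nat.mul_le_mul_left _ (Nat.pow_le_pow_left (Q.pow_le hc') p)).trans (fix_mul_le P hc)

end Cfsg.Agent.H979.S8
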